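/-
Groups in which every element of prime power order has a square-free class size: the solvable case
is supersolvable, and the Fitting subgroup has abelian quotient of square-free exponent.
-/
import Mathlib
import Cfsg.Agent.Lib.ClassSize.SquarefreeSizes
import Cfsg.Agent.Lib.Supersolvable.Huppert
import Cfsg.Agent.Lib.Supersolvable.MinNormal
import Cfsg.Agent.Lib.Supersolvable.Props
import Cfsg.Agent.Lib.Core.Fitting
import Cfsg.Agent.Lib.Core.Nilpotent
import Cfsg.Agent.Lib.SylowNormalizing.Basic
import Cfsg.Agent.Lib.NilpotentPerm.Basic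

set_option autoImplicit false
set_option linter.style.haveILetI false
set_option linter.unusedSectionVars false

namespace Cfsg.Agent.Lib.PPSq41

open Subgroup
open Cfsg.Agent.Lib
open scoped commutatorElement

universe u

/-- Elements of prime power order have square-free class sizes. -/
def PPSq (G : Type u) [Group G] : Prop :=
  ∀ x : G, (∃ (r : ℕ) (k : ℕ), r.Prime ∧ orderOf x = r ^ k) →
    Squarefree (centralizer ({x} : Set G)).index

section

variable {G : Type u} [Group G] [Finite G]

omit [Finite G] in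
theorem mem_cent {x g : G} : g ∈ centralizer ({x} : Set G) ↔ g * x = x * g :=
  mem_centralizer_singleton_iff

theorem PPSq.normal (h : PPSq G) (N : Subgroup G) [N.Normal] : PPSq N := by
  rintro x ⟨r, k, hr, hx⟩
  refine (h (x : G) ⟨r, k, hr, by rw [Subgroup.orderOf_coe, hx]⟩).squarefree_of_dvd ?_
  have e : centralizer ({x} : Set N) = (centralizer ({(x : G)} : Set G)).subgroupOf N := by
    ext y
    rw [mem_subgroupOf, mem_cent, mem_cent, Subtype.ext_iff]
    simp only [Subgroup.coe_mul]
  rw [e]
  exact ClassSize.relIndex_dvd_index_of_normal _ N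

theorem PPSq.quotient (h : PPSq G) (N : Subgroup G) [N.Normal] : PPSq (G ⧸ N) := by
  rintro x ⟨r, k, hr, hx⟩
  haveI := Fact.mk hr
  obtain ⟨g, rfl, j, hg⟩ :=
    SylowNormalizing.exists_lift_pow (QuotientGroup.mk' N) (QuotientGroup.mk'_surjective N) ⟨k, hx⟩
  refine (h g ⟨r, j, hr, hg⟩).squarefree_of_dvd ?_
  refine (index_dvd_of_le ?_).trans (index_map_dvd _ (QuotientGroup.mk'_surjective N))
  rintro _ ⟨c, hc, rfl⟩
  rw [mem_cent, ← map_mul, ← map_mul, mem_cent.1 hc]

/-- A prime power which is square-free is at most the prime. -/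
theorem le_one_of_squarefree_pow {p k : ℕ} (hp : p.Prime) (h : Squarefree (p ^ k)) : k ≤ 1 := by
  by_contra hlt
  have := h p (pow_two p ▸ pow_dvd_pow p (show 2 ≤ k by omega))
  exact hp.ne_one (Nat.isUnit_iff.1 this)

/-- A normal subgroup of prime order, or trivial, of a nilpotent group is central. -/
theorem le_center_of_card_dvd_prime [Group.IsNilpotent G] {r : ℕ} (hr : r.Prime) {N : Subgroup G}
    [N.Normal] (h : Nat.card N ∣ r) : N ≤ center G := by
  rcases (Nat.dvd_prime hr).1 h with h1 | h1
  · rw [Subgroup.card_eq_one.1 h1]; exact bot_le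
  · have hne : N ≠ ⊥ := fun e => hr.ne_one (by rw [← h1, e, Subgroup.card_bot])
    have hi := Nilp.inf_center_ne_bot_of_normal (N := N) hne
    have hd : Nat.card (N ⊓ center G : Subgroup G) ∣ r := h1 ▸ Subgroup.card_dvd_of_le inf_le_left
    rcases (Nat.dvd_prime hr).1 hd with h2 | h2
    · exact absurd (Subgroup.card_eq_one.1 h2) hi
    · rw [← Subgroup.eq_of_le_of_card_ge inf_le_left (by rw [h1, h2] : Nat.card N ≤ _)]
      exact inf_le_right

/-- In a nilpotent group the hypothesis gives square-free sizes for all classes. -/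
theorem PPSq.sqfreeSizes [Group.IsNilpotent G] (h : PPSq G) : ClassSize.SqfreeSizes G := by
  intro x
  rw [Nat.squarefree_iff_prime_squarefree]
  intro q hq hd
  haveI := Fact.mk hq
  obtain ⟨u, y, rfl, hc, ⟨k, hu⟩, hy, -, -⟩ := ClassSize.exists_pParts (p := q) x
  set A := centralizer ({u} : Set G) with hA
  set B := centralizer ({y} : Set G) with hB
  have hle : A ⊓ B ≤ centralizer ({u * y} : Set G) := fun c hc' => by
    have h1 : Commute c u := mem_cent.1 hc'.1
    have h2 : Commute c y := mem_cent.1 hc'.2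
    exact mem_cent.2 (h1.mul_right h2).eq
  have h1 : q * q ∣ B.relIndex A * A.index := by
    refine (hd.trans (index_dvd_of_le hle)).trans ?_
    rw [← relIndex_mul_index (inf_le_left : A ⊓ B ≤ A), inf_relIndex_left]
  obtain ⟨P⟩ : Nonempty (Sylow q G) := inferInstance
  haveI hPn : (P : Subgroup G).Normal := inferInstance
  have hPB : (P : Subgroup G) ≤ B := by
    intro a ha
    refine mem_cent.2 ?_
    -- coprime orders commute in a nilpotent group
    have hcop : (orderOf a).Coprime (orderOf y) := by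
      obtain ⟨j, hj⟩ := IsPGroup.iff_orderOf.1 P.2 ⟨a, ha⟩
      rw [Subgroup.orderOf_mk] at hj
      rw [hj]
      exact (hy.symm).pow_left j
    exact NilpotentPerm.commute_of_coprime_orderOf inferInstance hcop
  have h2 : ¬ q ∣ B.relIndex A := by
    intro hq'
    have e : (P : Subgroup G) ⊓ A ≤ B ⊓ A := inf_le_inf_right _ hPB
    have h3 : q ∣ ((P : Subgroup G)).relIndex A :=
      hq'.trans (relIndex_dvd_of_le_left A hPB)
    exact P.not_dvd_index (h3.trans (relIndex_dvd_index_of_normal _ _))
  have h3 : q ^ 2 ∣ A.index := by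
    rw [pow_two]
    exact (Nat.Coprime.mul_left (hq.coprime_iff_not_dvd.2 h2) (hq.coprime_iff_not_dvd.2 h2)
      |>.dvd_of_dvd_mul_left h1)
  exact hq.ne_one (Nat.isUnit_iff.1 (h u ⟨q, k, hq, hu⟩ q (pow_two q ▸ h3)))

/-- A solvable group with the hypothesis is supersolvable. -/
theorem PPSq.isSupersolvable : ∀ (n : ℕ) (G : Type u) [Group G] [Finite G], Nat.card G = n →
    Group.IsSolvable G → PPSq G → Cfsg.IsSupersolvable G := by
  intro n
  induction n using Nat.strong_induction_on with
  | _ n ih =>
  intro G _ _ hn hs h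
  refine Supersolvable.of_prime_index G fun M hM => ?_
  by_cases hK : M.normalCore = ⊥
  swap
  · -- pass to the quotient by the core
    set K := M.normalCore
    have hq : Cfsg.IsSupersolvable (G ⧸ K) :=
      ih _ (hn ▸ Supersolvable.card_quotient_lt hK) _ rfl inferInstance (h.quotient K)
    have hKM : K ≤ M := normalCore_le M
    have hidx : (M.map (QuotientGroup.mk' K)).index = M.index :=
      index_map_eq _ (QuotientGroup.mk'_surjective K) (by rwa [QuotientGroup.ker_mk'])
    rw [← hidx]
    exact Supersolvable.prime_index_of_isCoatom _ hq _ (Supersolvable.isCoatom_map_of_le hM hKM)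
  haveI : Nontrivial G := by
    by_contra hcon
    rw [not_nontrivial_iff_subsingleton] at hcon
    exact hM.1 (Subsingleton.elim _ _)
  obtain ⟨N, hNn, hNne, hNab, hNmin, p, hp, hNp, hexp⟩ :=
    Supersolvable.exists_minimal_normal_solvable G
  haveI := hNn
  haveI := hNab
  haveI := Fact.mk hp
  have hNM : ¬ N ≤ M := fun hle => hNne (le_bot_iff.1 (hK ▸ normal_le_normalCore.2 hle))
  have hbot : N ⊓ M = ⊥ := (hNmin _ (Supersolvable.inf_normal_of_not_le hM hNM) inf_le_left).resolve_right
    fun e => hNM (e ▸ inf_le_right)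
  have htop : N ⊔ M = ⊤ := hM.2 _ (lt_of_le_of_ne le_sup_right fun e => hNM (e ▸ le_sup_left))
  have hc : IsComplement' N M := by
    refine isComplement'_of_disjoint_and_mul_eq_univ (disjoint_iff.2 hbot) ?_
    rw [← Subgroup.normal_mul, htop, Subgroup.coe_top]
  rw [hc.index_eq_card]
  obtain ⟨e, he, hecard⟩ := Supersolvable.isPGroup_prime_dvd hNp hNne
  suffices e = 1 by rw [hecard, this, pow_one]; exact hp
  -- no element of `M` other than the identity centralizes `N`
  have hCM : M ⊓ centralizer (N : Set G) = ⊥ := by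
    have hn : (M ⊓ centralizer (N : Set G)).Normal := by
      rw [← normalizer_eq_top_iff, eq_top_iff, ← htop, sup_le_iff]
      refine ⟨?_, ?_⟩
      · refine le_trans ?_ (centralizer_le_normalizer _)
        exact le_centralizer_iff.1 inf_le_right
      · refine (normal_subgroupOf_iff_le_normalizer inf_le_left).1 ?_
        rw [inf_subgroupOf_left]
        infer_instance
    have := normal_le_normalCore.2 (inf_le_left : M ⊓ centralizer (N : Set G) ≤ M)
    exact le_bot_iff.1 (hK ▸ this)
  by_cases hMbot : M = ⊥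
  · -- `G = N` has prime order
    subst hMbot
    obtain ⟨a, ha⟩ : ∃ a : N, orderOf a = p :=
      exists_prime_orderOf_dvd_card' p (hecard ▸ dvd_pow_self p he.ne')
    have hz : zpowers (a : G) = ⊤ := hM.2 _ (bot_lt_iff_ne_bot.2 fun h0 => by
      rw [zpowers_eq_bot] at h0
      rw [← Subgroup.orderOf_coe, h0, orderOf_one] at ha
      exact hp.ne_one ha.symm)
    have hle : N ≤ zpowers (a : G) := hz ▸ le_top
    have := Subgroup.card_dvd_of_le hle
    rw [Nat.card_zpowers, Subgroup.orderOf_coe, ha, hecard] at this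
    exact le_antisymm ((Nat.pow_dvd_pow_iff_le_right hp.one_lt).1 (this.trans (pow_one p).symm.dvd)) he
  -- `M` is supersolvable
  let f : M →* G ⧸ N := (QuotientGroup.mk' N).comp M.subtype
  have hf : Function.Injective f := by
    rw [← MonoidHom.ker_eq_bot_iff, eq_bot_iff]
    intro m hm
    have : (m : G) ∈ N ⊓ M := ⟨(QuotientGroup.eq_one_iff _).1 hm, m.2⟩
    rw [hbot, mem_bot] at this
    exact mem_bot.2 (Subtype.ext this)
  have hMs : Cfsg.IsSupersolvable M := Supersolvable.of_injective
    (ih _ (hn ▸ Supersolvable.card_quotient_lt hNne) _ rfl inferInstance (h.quotient N)) f hf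
  haveI : Nontrivial M := (nontrivial_iff_ne_bot M).2 hMbot
  obtain ⟨R, hR, hRp⟩ := Supersolvable.exists_normal_prime_card hMs
  haveI := hR
  obtain ⟨r, hr, hrc⟩ : ∃ r : ℕ, r.Prime ∧ Nat.card R = r := ⟨_, hRp, rfl⟩
  haveI := Fact.mk hr
  obtain ⟨x, hx⟩ := exists_prime_orderOf_dvd_card' r (hrc ▸ dvd_rfl : r ∣ Nat.card R)
  set X : G := ((x : M) : G) with hX
  have hXo : orderOf X = r := by rw [hX, Subgroup.orderOf_coe, Subgroup.orderOf_coe, hx]
  have hXM : X ∈ M := (x : M).2
  -- the fixed points of `X` on `N` are normal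
  have hfixn : (N ⊓ centralizer ({X} : Set G)).Normal := by
    refine Supersolvable.normal_of_sup_eq_top htop inf_le_left ?_
    intro m hm
    have key : ∀ m ∈ M, ∀ a ∈ N ⊓ centralizer ({X} : Set G),
        m * a * m⁻¹ ∈ N ⊓ centralizer ({X} : Set G) := by
      intro m hm a ha
      refine ⟨hNn.conj_mem a ha.1 m, mem_cent.2 ?_⟩
      have hmx : (⟨m, hm⟩ : M)⁻¹ * x * ⟨m, hm⟩ ∈ R := by
        simpa using hR.conj_mem x x.2 (⟨m, hm⟩ : M)⁻¹
      have hz : zpowers (x : M) = R := Subgroup.eq_of_le_of_card_ge (zpowers_le.2 x.2) (by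
        rw [Nat.card_zpowers, Subgroup.orderOf_coe, hx, hrc])
      obtain ⟨i, hi⟩ := mem_zpowers_iff.1 ((SetLike.ext_iff.1 hz _).2 hmx)
      have hi' : m⁻¹ * X * m = X ^ i := by
        have := congrArg (fun t : M => (t : G)) hi
        simpa using this.symm
      have hca : Commute a (m⁻¹ * X * m) := hi' ▸ (Commute.zpow_right (mem_cent.1 ha.2) i)
      calc m * a * m⁻¹ * X = m * (a * (m⁻¹ * X * m)) * m⁻¹ := by group
        _ = m * ((m⁻¹ * X * m) * a) * m⁻¹ := by rw [hca.eq]
        _ = X * (m * a * m⁻¹) := by group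
    rw [mem_normalizer_iff]
    refine fun a => ⟨key m hm a, fun ha => ?_⟩
    simpa [mul_assoc] using key m⁻¹ (inv_mem hm) _ ha
  have hfix : N ⊓ centralizer ({X} : Set G) = ⊥ := by
    refine (hNmin _ hfixn inf_le_left).resolve_right fun e => ?_
    have : X ∈ M ⊓ centralizer (N : Set G) := ⟨hXM, mem_centralizer_iff.2 fun a ha => by
      have ha' : a ∈ N ⊓ centralizer ({X} : Set G) := e.symm ▸ ha
      exact mem_cent.1 ha'.2⟩
    rw [hCM, mem_bot] at this
    rw [this, orderOf_one] at hXo
    exact hr.ne_one hXo.symm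
  have hd : Nat.card N ∣ (centralizer ({X} : Set G)).index := by
    refine dvd_trans (dvd_of_eq ?_) (ClassSize.relIndex_dvd_index_of_normal _ N)
    rw [← inf_relIndex_right, inf_comm, hfix, relIndex_bot_left]
  rw [hecard] at hd
  exact le_antisymm (le_one_of_squarefree_pow hp
    ((h X ⟨r, 1, hr, by rw [pow_one, hXo]⟩).squarefree_of_dvd hd)) he

/-- The derived subgroup of the Fitting subgroup, inside the whole group. -/
theorem squarefree_card_commutator_fitting (h : PPSq G) [(Cfsg.fittingSubgroup G).Normal] :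
    Squarefree (Nat.card (commutator ↥(Cfsg.fittingSubgroup G))) := by
  haveI := Fitting.isNilpotent_fittingSubgroup (G := G)
  exact ClassSize.squarefree_card_commutator (h.normal _).sqfreeSizes

/-- A `q`-power of a `q`-element lies in the Fitting subgroup. -/
theorem pow_mem_fitting (h : PPSq G) [(Cfsg.fittingSubgroup G).Normal]
    (hab : commutator G ≤ Cfsg.fittingSubgroup G) {q : ℕ} [hq : Fact q.Prime] {g : G}
    (hg : ∃ k : ℕ, orderOf g = q ^ k) : g ^ q ∈ Cfsg.fittingSubgroup G := by
  set F := Cfsg.fittingSubgroup G with hF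
  haveI : Group.IsNilpotent F := Fitting.isNilpotent_fittingSubgroup
  by_contra hgq
  set a := g ^ q with ha
  have hsq := squarefree_card_commutator_fitting h
  -- an element of `F` of order prime to `q` with a conjugation by `a` inside `D`
  set D : Subgroup G := (commutator ↥F).map F.subtype with hD
  haveI : D.Normal := inferInstance
  have hstep : ∀ u ∈ F, (∃ (r : ℕ) (k : ℕ), r.Prime ∧ orderOf u = r ^ k) →
      a ∈ centralizer ({u} : Set G) ⊔ F := by
    intro u hu hpp
    by_contra hna
    set H := centralizer ({u} : Set G) ⊔ F with hH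
    haveI : H.Normal := Normal.of_conjugate_fixed fun x => by
      ext y
      have hc : x⁻¹ * y * x * y⁻¹ ∈ H := by
        have : x⁻¹ * y * x * y⁻¹ = ⁅x⁻¹, y⁆ := by rw [commutatorElement_def]; group
        rw [this]
        exact le_sup_right (a := centralizer ({u} : Set G))
          (hab (commutator_mem_commutator (mem_top _) (mem_top _)))
      rw [mem_pointwise_smul_iff_inv_smul_mem]
      simp only [MulAut.smul_def, MulAut.inv_apply, MulAut.conj_symm_apply]
      constructor
      · intro hy
        have := H.mul_mem (H.inv_mem hc) hy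
        simpa [mul_assoc] using this
      · intro hy
        have := H.mul_mem hc hy
        simpa [mul_assoc] using this
    obtain ⟨k, hk⟩ := hg
    have hd : orderOf (QuotientGroup.mk' H g) ∣ q ^ k := hk ▸ orderOf_map_dvd _ g
    obtain ⟨j, -, hj⟩ := (Nat.dvd_prime_pow hq.out).1 hd
    have hj2 : 2 ≤ j := by
      by_contra hlt
      refine hna ((QuotientGroup.eq_one_iff a).1 ?_)
      show (QuotientGroup.mk' H) (g ^ q) = 1
      rw [map_pow, ← orderOf_dvd_iff_pow_eq_one, hj]
      exact (pow_dvd_pow q (show j ≤ 1 by omega)).trans (pow_one q).dvd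
    have : q * q ∣ (centralizer ({u} : Set G)).index := by
      refine dvd_trans ?_ (index_dvd_of_le (le_sup_left : centralizer ({u} : Set G) ≤ H))
      rw [← pow_two]
      refine (pow_dvd_pow q hj2).trans ?_
      rw [← hj, Subgroup.index_eq_card]
      exact _root_.orderOf_dvd_natCard _
    exact hq.out.ne_one (Nat.isUnit_iff.1 (h u hpp q this))
  have hmove : ∀ u ∈ F, (∃ (r : ℕ) (k : ℕ), r.Prime ∧ orderOf u = r ^ k) →
      a * u * a⁻¹ * u⁻¹ ∈ D := by
    intro u hu hpp
    obtain ⟨c, hc, f, hf, hcf⟩ := mem_sup_of_normal_right.1 (hstep u hu hpp)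
    have hd : f * u * f⁻¹ * u⁻¹ ∈ D :=
      ⟨⁅(⟨f, hf⟩ : F), ⟨u, hu⟩⁆, commutator_mem_commutator (mem_top _) (mem_top _), by
        simp [commutatorElement_def]⟩
    have hcu : c * u * c⁻¹ = u := by rw [mem_cent.1 hc, mul_inv_cancel_right]
    have : a * u * a⁻¹ * u⁻¹ = c * (f * u * f⁻¹ * u⁻¹) * c⁻¹ := by
      rw [← hcf]
      calc c * f * u * (c * f)⁻¹ * u⁻¹ = c * (f * u * f⁻¹ * u⁻¹) * c⁻¹ * (c * u * c⁻¹) * u⁻¹ := by
            group
        _ = c * (f * u * f⁻¹ * u⁻¹) * c⁻¹ := by rw [hcu, mul_inv_cancel_right]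
    rw [this]
    exact (inferInstance : D.Normal).conj_mem _ hd c
  -- `a` centralizes the elements of `F` of order prime to `q`
  have hfix : ∀ (r : ℕ), r.Prime → r ≠ q → ∀ (R : Sylow r F), ∀ u ∈ (R : Subgroup F),
      a * (u : G) = (u : G) * a := by
    intro r hr hrq R u hu
    haveI := Fact.mk hr
    haveI : (R : Subgroup F).Normal := inferInstance
    haveI : (R : Subgroup F).Characteristic := R.characteristic_of_normal inferInstance
    set R' : Subgroup G := (R : Subgroup F).map F.subtype with hR'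
    haveI : R'.Normal := inferInstance
    set E : Subgroup F := commutator ↥F ⊓ (R : Subgroup F) with hE
    haveI : E.Normal := inferInstance
    have hEr : Nat.card E ∣ r := by
      obtain ⟨j, hj⟩ := IsPGroup.iff_card.1 (R.2.to_le (inf_le_right : E ≤ _))
      have : Squarefree (r ^ j) := hj ▸ hsq.squarefree_of_dvd (Subgroup.card_dvd_of_le inf_le_left)
      rw [hj]
      exact (pow_dvd_pow r (le_one_of_squarefree_pow hr this)).trans (pow_one r).dvd
    have hEc : E ≤ center F := le_center_of_card_dvd_prime hr hEr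
    have hpp : ∀ v ∈ (R : Subgroup F), ∃ (s : ℕ) (k : ℕ), s.Prime ∧ orderOf (v : G) = s ^ k := by
      intro v hv
      obtain ⟨k, hk⟩ := IsPGroup.iff_orderOf.1 R.2 ⟨v, hv⟩
      exact ⟨r, k, hr, by rw [Subgroup.orderOf_coe, ← hk]; exact (Subgroup.orderOf_mk v hv).symm⟩
    -- central elements are fixed
    have hcen : ∀ v : F, v ∈ E → a * (v : G) = (v : G) * a := by
      intro v hv
      have hle : F ≤ centralizer ({(v : G)} : Set G) := fun b hb => mem_cent.2
        (congrArg Subtype.val (mem_center_iff.1 (hEc hv) ⟨b, hb⟩))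
      have := hstep v v.2 (hpp v hv.2)
      rw [sup_eq_left.2 hle] at this
      exact mem_cent.1 this
    set x : G := a * (u : G) * a⁻¹ * (u : G)⁻¹ with hx
    have hxR : x ∈ R' := R'.mul_mem ((inferInstance : R'.Normal).conj_mem _
      (mem_map_of_mem F.subtype hu) a) (R'.inv_mem (mem_map_of_mem F.subtype hu))
    obtain ⟨w, hw, hwx⟩ := hxR
    obtain ⟨w', hw', hwx'⟩ := hmove u u.2 (hpp u hu)
    have hww : w' = w := F.subtype_injective (hwx'.trans hwx.symm)
    subst hww
    have hax : Commute a x := by rw [← hwx]; exact hcen w' ⟨hw', hw⟩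
    have hpow : ∀ n : ℕ, a ^ n * (u : G) * (a ^ n)⁻¹ = x ^ n * (u : G) := by
      intro n
      induction n with
      | zero => simp
      | succ n ihn =>
        calc a ^ (n + 1) * (u : G) * (a ^ (n + 1))⁻¹
            = a * (a ^ n * (u : G) * (a ^ n)⁻¹) * a⁻¹ := by rw [pow_succ']; group
          _ = (a * x ^ n * a⁻¹) * (a * (u : G) * a⁻¹) := by rw [ihn]; group
          _ = x ^ n * (x * (u : G)) := by
            rw [(hax.pow_right n).eq, mul_inv_cancel_right]
            congr 1
            rw [hx]
            group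
          _ = x ^ (n + 1) * (u : G) := by rw [pow_succ, mul_assoc (x ^ n)]
    have hxn : x ^ orderOf a = 1 := by
      have := hpow (orderOf a)
      rw [pow_orderOf_eq_one, one_mul, inv_one, mul_one] at this
      exact mul_eq_right.1 this.symm
    have hxr : x ^ r = 1 := by
      have hwE : (⟨w', ⟨hw', hw⟩⟩ : E) ^ r = 1 := by
        exact orderOf_dvd_iff_pow_eq_one.1 ((_root_.orderOf_dvd_natCard _).trans hEr)
      rw [← hwx]
      exact congrArg (fun t : E => ((t : F) : G)) hwE
    have hcop : (orderOf a).Coprime r := by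
      obtain ⟨k, hk⟩ := hg
      refine Nat.Coprime.coprime_dvd_left ((orderOf_pow_dvd q : orderOf a ∣ _).trans hk.dvd) ?_
      exact ((Nat.coprime_primes hq.out hr).2 (Ne.symm hrq)).pow_left k
    have hx1 : x = 1 := by
      have := pow_gcd_eq_one (a := x) (m := orderOf a) (n := r) |>.2 ⟨hxn, hxr⟩
      rwa [hcop, pow_one] at this
    rw [hx, mul_inv_eq_one, mul_inv_eq_iff_eq_mul] at hx1
    exact hx1
  -- the `q`-part
  obtain ⟨Q⟩ : Nonempty (Sylow q F) := inferInstance
  haveI : (Q : Subgroup F).Characteristic := Q.characteristic_of_normal inferInstance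
  set Q' : Subgroup G := (Q : Subgroup F).map F.subtype with hQ'
  haveI : Q'.Normal := inferInstance
  set W : Subgroup G := Q' ⊔ zpowers a with hW
  have haW : a ∈ W := le_sup_right (a := Q') (mem_zpowers a)
  have hWp : IsPGroup q W := by
    refine IsPGroup.to_sup_of_normal_left (Q.2.map _) ?_
    obtain ⟨k, hk⟩ := hg
    obtain ⟨j, -, hj⟩ := (Nat.dvd_prime_pow hq.out).1 ((orderOf_pow_dvd q : orderOf a ∣ _).trans hk.dvd)
    exact IsPGroup.of_card (n := j) (by rw [Nat.card_zpowers, hj])
  have hFW : F ≤ normalizer (W : Set G) := by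
    have : (normalizer (W : Set G)).subgroupOf F = ⊤ := by
      refine Fitting.eq_top_of_sylow_le fun r hr => ?_
      haveI := Fact.mk hr
      obtain ⟨R⟩ : Nonempty (Sylow r F) := inferInstance
      by_cases hrq : r = q
      · subst hrq
        refine ⟨Q, fun u hu => ?_⟩
        rw [mem_subgroupOf]
        exact le_normalizer (le_sup_left (b := zpowers a) (mem_map_of_mem F.subtype hu))
      · refine ⟨R, fun u hu => ?_⟩
        rw [mem_subgroupOf]
        refine (centralizer_le_normalizer (W : Set G)) ?_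
        rw [mem_centralizer_iff]
        have hle : W ≤ centralizer ({(u : G)} : Set G) := by
          refine sup_le ?_ (zpowers_le.2 (mem_cent.2 (hfix r hr hrq R u hu)))
          rintro _ ⟨v, hv, rfl⟩
          refine mem_cent.2 (congrArg Subtype.val (?_ : v * u = u * v))
          refine NilpotentPerm.commute_of_coprime_orderOf inferInstance ?_
          obtain ⟨i, hi⟩ := IsPGroup.iff_orderOf.1 Q.2 ⟨v, hv⟩
          obtain ⟨j, hj⟩ := IsPGroup.iff_orderOf.1 R.2 ⟨u, hu⟩
          rw [Subgroup.orderOf_mk] at hi hj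
          rw [hi, hj]
          exact ((Nat.coprime_primes hq.out hr).2 (Ne.symm hrq)).pow i j
        exact fun w hw => mem_cent.1 (hle hw)
    exact subgroupOf_eq_top.1 this
  set M : Subgroup G := F ⊔ zpowers a with hM
  have hWM : W ≤ M := sup_le ((map_subtype_le _).trans le_sup_left) le_sup_right
  haveI hMn : M.Normal := ⟨fun b hb x => by
    have : x * b * x⁻¹ = ⁅x, b⁆ * b := by rw [commutatorElement_def]; group
    rw [this]
    exact M.mul_mem (le_sup_left (b := zpowers a) (hab (commutator_mem_commutator (mem_top _)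
      (mem_top _)))) hb⟩
  have hMW : M ≤ normalizer (W : Set G) := sup_le hFW (zpowers_le.2 (le_normalizer haW))
  have hWn : (W.subgroupOf M).Normal := (normal_subgroupOf_iff_le_normalizer hWM).2 hMW
  have hsub : W.IsSubnormal :=
    Subgroup.IsSubnormal.trans hWM hWn.isSubnormal hMn.isSubnormal
  exact hgq (Fitting.le_fittingSubgroup_of_isSubnormal hsub hWp.isNilpotent haW)

/-- The quotient by the Fitting subgroup is abelian of square-free exponent. -/
theorem quotient_fitting (h : PPSq G) [(Cfsg.fittingSubgroup G).Normal]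
    (hab : commutator G ≤ Cfsg.fittingSubgroup G) :
    IsMulCommutative (G ⧸ Cfsg.fittingSubgroup G) ∧
      Squarefree (Monoid.exponent (G ⧸ Cfsg.fittingSubgroup G)) := by
  set F := Cfsg.fittingSubgroup G with hF
  refine ⟨(Subgroup.Normal.quotient_commutative_iff_commutator_le (N := F)).2 hab, ?_⟩
  rw [Nat.squarefree_iff_prime_squarefree]
  intro q hq hd
  haveI := Fact.mk hq
  obtain ⟨E, hE⟩ : q ∣ Monoid.exponent (G ⧸ F) := (dvd_mul_right q q).trans hd
  have hqE : q ∣ E := (Nat.mul_dvd_mul_iff_left hq.pos).1 (hE ▸ hd)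
  have hE0 : 0 < E := by
    rcases Nat.eq_zero_or_pos E with h0 | h0
    · exact absurd (hE.trans (by rw [h0, mul_zero])) (Monoid.exponent_ne_zero_of_finite)
    · exact h0
  have key : ∀ y : G ⧸ F, orderOf y ∣ E := by
    intro y
    have hy : orderOf y ∣ q * E := hE ▸ Monoid.order_dvd_exponent y
    by_cases hqy : q * q ∣ orderOf y
    · exfalso
      obtain ⟨c, hc⟩ := hqy
      have hy' : orderOf (y ^ c) = q ^ 2 := by
        rw [orderOf_pow, hc, Nat.gcd_mul_left_left, pow_two,
          Nat.mul_div_cancel _ (Nat.pos_of_ne_zero fun h0 => (orderOf_pos y).ne' (by rw [hc, h0, mul_zero]))]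
      obtain ⟨g, hg, hgk⟩ := SylowNormalizing.exists_lift_pow (QuotientGroup.mk' F)
        (QuotientGroup.mk'_surjective F) (y := y ^ c) ⟨2, hy'⟩
      have hgq := pow_mem_fitting h hab hgk
      have : (y ^ c) ^ q = 1 := by
        rw [← hg, ← map_pow]
        exact (QuotientGroup.eq_one_iff _).2 hgq
      have := orderOf_dvd_of_pow_eq_one this
      rw [hy', pow_two] at this
      have := Nat.le_of_dvd hq.pos this
      nlinarith [hq.two_le]
    · by_cases hq1 : q ∣ orderOf y
      · obtain ⟨c, hc⟩ := hq1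
        have hcq : ¬ q ∣ c := fun hcq => hqy (hc ▸ Nat.mul_dvd_mul_left q hcq)
        rw [hc] at hy ⊢
        exact (hq.coprime_iff_not_dvd.2 hcq).mul_dvd_of_dvd_of_dvd hqE
          ((Nat.mul_dvd_mul_iff_left hq.pos).1 hy)
      · exact (hq.coprime_iff_not_dvd.2 hq1).symm.dvd_of_dvd_mul_left hy
  have := Nat.le_of_dvd hE0 (Monoid.exponent_dvd_of_forall_pow_eq_one fun y =>
    orderOf_dvd_iff_pow_eq_one.1 (key y))
  rw [hE] at this
  have := Nat.mul_le_mul_right E hq.two_le
  omega

/-- All clauses, given solvability. -/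
theorem structure_of_isSolvable (h : PPSq G) (hs : Group.IsSolvable G) :
    Cfsg.IsSupersolvable G ∧ derivedSeries G 3 = ⊥ ∧
    (∀ _h : (Cfsg.fittingSubgroup G).Normal, IsMulCommutative (G ⧸ Cfsg.fittingSubgroup G) ∧
      Squarefree (Monoid.exponent (G ⧸ Cfsg.fittingSubgroup G))) ∧
    Squarefree (Nat.card (commutator ↥(Cfsg.fittingSubgroup G))) := by
  have hsup := PPSq.isSupersolvable _ G rfl hs h
  haveI := Supersolvable.isNilpotent_commutator G hsup
  have hab : commutator G ≤ Cfsg.fittingSubgroup G := Fitting.le_fittingSubgroup inferInstance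
  haveI : (Cfsg.fittingSubgroup G).Normal := Fitting.fittingSubgroup_normal
  have hsq := squarefree_card_commutator_fitting h
  refine ⟨hsup, ?_, fun _ => quotient_fitting h hab, hsq⟩
  set F := Cfsg.fittingSubgroup G with hF
  haveI : Group.IsNilpotent F := Fitting.isNilpotent_fittingSubgroup
  haveI := IsZGroup.of_squarefree hsq
  haveI : IsCyclic (commutator ↥F) := inferInstance
  have h2 : derivedSeries G 2 ≤ (commutator ↥F).map F.subtype := by
    rw [derivedSeries_succ, derivedSeries_one, _root_.commutator_def (↥F), map_commutator,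
      ← MonoidHom.range_eq_map, range_subtype]
    exact commutator_mono hab hab
  rw [derivedSeries_succ, eq_bot_iff, commutator_le]
  intro b hb c hc
  obtain ⟨b', hb', rfl⟩ := h2 hb
  obtain ⟨c', hc', rfl⟩ := h2 hc
  rw [mem_bot, commutatorElement_eq_one_iff_mul_comm, ← map_mul, ← map_mul]
  exact congrArg F.subtype (congrArg Subtype.val
    (IsCyclic.isMulCommutative.1.1 (⟨b', hb'⟩ : commutator ↥F) ⟨c', hc'⟩))

end

end Cfsg.Agent.Lib.PPSq41
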